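import Mathlib
import Groth.Agent.OmegaField.Basis

/-!
# Differentials of function fields
-/

set_option autoImplicit false
universe u v w

namespace Groth.Agent.H1FunField

/-- If differentials of elements coming from a subfield span, the extension is separable. -/
theorem isSeparable_of_span (k : Type u) (E F : Type v) [Field k] [Field E] [Field F] [Algebra k E]
    [Algebra k F] [Algebra E F] [IsScalarTower k E F] [Algebra.EssFiniteType k F] (s : Set F)
    (hs : s ⊆ Set.range (algebraMap E F))
    (h : Submodule.span F (KaehlerDifferential.D k F '' s) = ⊤) : Algebra.IsSeparable E F := by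
  haveI : Algebra.EssFiniteType E F := Algebra.EssFiniteType.of_comp k E F
  let μ := KaehlerDifferential.map k E F F
  have hsurj : Function.Surjective μ := KaehlerDifferential.map_surjective k E F
  have hzero : ∀ ω : Ω[F⁄k], μ ω = 0 := by
    intro ω
    have hω : ω ∈ Submodule.span F (KaehlerDifferential.D k F '' s) := h ▸ Submodule.mem_top
    induction hω using Submodule.span_induction with
    | mem y hy =>
      obtain ⟨a, ha, rfl⟩ := hy
      obtain ⟨e, rfl⟩ := hs ha
      simp only [μ, KaehlerDifferential.map_D, Algebra.algebraMap_self, RingHom.id_apply,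
        Derivation.map_algebraMap]
    | zero => exact map_zero μ
    | add a b _ _ ha hb => rw [map_add, ha, hb, add_zero]
    | smul c a _ ha => rw [map_smul, ha, smul_zero]
  haveI : Subsingleton (Ω[F⁄E]) := ⟨fun a b => by
    obtain ⟨a, rfl⟩ := hsurj a
    obtain ⟨b, rfl⟩ := hsurj b
    rw [hzero, hzero]⟩
  haveI : Algebra.FormallyUnramified E F := ⟨inferInstance⟩
  exact Algebra.FormallyUnramified.isSeparable E F

/-- Over a perfect field the differentials of a function field have rank the transcendence degree. -/
theorem finrank_eq (k : Type u) (F : Type v) [Field k] [PerfectField k] [Field F] [Algebra k F]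
    [Algebra.EssFiniteType k F] {ι : Type w} [Fintype ι] (x : ι → F) (hx : IsTranscendenceBasis k x) :
    Module.Finite F (Ω[F⁄k]) ∧ Module.finrank F (Ω[F⁄k]) = Fintype.card ι := by
  obtain ⟨s, hs, hsep⟩ := exists_isTranscendenceBasis_and_isSeparable_of_perfectField k F
  have hsep' : Algebra.IsSeparable ↥(IntermediateField.adjoin k (Set.range ((↑) : s → F))) F := by
    rwa [Subtype.range_coe_subtype, Finset.setOf_mem]
  obtain ⟨b, -⟩ := OmegaField.exists_basis k F ((↑) : s → F) hs.1 hsep'
  refine ⟨Module.Finite.of_basis b, ?_⟩
  rw [Module.finrank_eq_card_basis b]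
  have := hs.lift_cardinalMk_eq hx
  simp only [Cardinal.mk_fintype, Cardinal.lift_natCast, Nat.cast_inj] at this
  exact this

end Groth.Agent.H1FunField
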